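import Mathlib

/-!
# Units of finitely generated algebras over a field modulo algebraic elements
-/

set_option autoImplicit false
universe u

open WithZero MvPolynomial
open scoped WithZero nonZeroDivisors
open scoped Classical

noncomputable section

namespace UnitsFGLib

variable (k : Type u) [Field k] (n : ℕ)

/-- minus the total degree -/
def degFun (p : MvPolynomial (Fin n) k) : ℤᵐ⁰ :=
  if p = 0 then 0 else exp (p.totalDegree : ℤ)

theorem degFun_le (p : MvPolynomial (Fin n) k) {m : ℕ} (h : p.totalDegree ≤ m) :
    degFun k n p ≤ exp (m : ℤ) := by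
  unfold degFun
  split_ifs
  · exact zero_le
  · exact exp_le_exp.mpr (by exact_mod_cast h)

/-- the degree valuation -/
def degVal : Valuation (MvPolynomial (Fin n) k) ℤᵐ⁰ where
  toFun := degFun k n
  map_zero' := if_pos rfl
  map_one' := by simp [degFun]
  map_mul' a b := by
    by_cases ha : a = 0
    · simp [degFun, ha]
    by_cases hb : b = 0
    · simp [degFun, hb]
    simp only [degFun, ha, hb, mul_eq_zero, or_self, if_false]
    rw [totalDegree_mul_of_isDomain ha hb, Nat.cast_add, exp_add]
  map_add_le_max' a b := by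
    by_cases ha : a = 0
    · simp [degFun, ha]
    by_cases hb : b = 0
    · simp [degFun, hb]
    refine (degFun_le k n (a + b) (totalDegree_add a b)).trans ?_
    simp only [degFun, ha, hb, if_false]
    rw [Nat.cast_max]
    rcases le_total (a.totalDegree : ℤ) (b.totalDegree : ℤ) with h | h
    · rw [max_eq_right h]; exact le_max_right _ _
    · rw [max_eq_left h]; exact le_max_left _ _

theorem degVal_apply (p : MvPolynomial (Fin n) k) : degVal k n p = degFun k n p := rfl

theorem nzd_le : (MvPolynomial (Fin n) k)⁰ ≤ (degVal k n).supp.primeCompl := fun x hx hmem => by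
  have h : degVal k n x = 0 := hmem
  rw [degVal_apply, degFun, if_neg (nonZeroDivisors.ne_zero hx)] at h
  exact exp_ne_zero h

/-- the valuation at infinity of the rational function field -/
def infVal : Valuation (FractionRing (MvPolynomial (Fin n) k)) ℤᵐ⁰ :=
  (degVal k n).extendToLocalization (nzd_le k n) _

theorem infVal_algebraMap (p : MvPolynomial (Fin n) k) :
    infVal k n (algebraMap _ (FractionRing (MvPolynomial (Fin n) k)) p) = degFun k n p :=
  Valuation.extendToLocalization_apply_map_apply _ _ _ _

theorem eq_C_of_le_one {p : MvPolynomial (Fin n) k}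
    (h : infVal k n (algebraMap _ (FractionRing (MvPolynomial (Fin n) k)) p) ≤ 1) : ∃ c, p = C c := by
  rw [infVal_algebraMap, degFun] at h
  split_ifs at h with hp
  · exact ⟨0, by rw [hp, map_zero]⟩
  · refine ⟨_, (totalDegree_eq_zero_iff_eq_C).mp (Nat.le_zero.mp ?_)⟩
    rw [← exp_zero, exp_le_exp] at h
    exact_mod_cast h

instance : IsCyclic ↥(MonoidWithZeroHom.valueGroup (.ofClass (infVal k n))) := Subgroup.isCyclic _

instance [NeZero n] : Nontrivial ↥(MonoidWithZeroHom.valueGroup (.ofClass (infVal k n))) := by
  have h : Units.mk0 (exp (1 : ℤ)) exp_ne_zero ∈ MonoidWithZeroHom.valueGroup (.ofClass (infVal k n)) := by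
    refine MonoidWithZeroHom.mem_valueGroup _ ?_
    refine ⟨algebraMap _ _ (X 0 : MvPolynomial (Fin n) k), ?_⟩
    show infVal k n _ = exp (1 : ℤ)
    rw [infVal_algebraMap, degFun, if_neg (X_ne_zero _), totalDegree_X, Nat.cast_one]
  refine ⟨⟨_, h⟩, 1, fun e => ?_⟩
  have := congrArg (fun u => ((u.1 : (ℤᵐ⁰)ˣ) : ℤᵐ⁰)) e
  simp only [Units.val_mk0, OneMemClass.coe_one, Units.val_one, ← exp_zero, exp_inj] at this
  exact one_ne_zero this

/-- units of a finite separable extension of the rational function field, up to algebraic elements -/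
theorem exists_hom_of_separable [NeZero n] (L : Type u) [Field L]
    [Algebra (FractionRing (MvPolynomial (Fin n) k)) L]
    [FiniteDimensional (FractionRing (MvPolynomial (Fin n) k)) L]
    [Algebra.IsSeparable (FractionRing (MvPolynomial (Fin n) k)) L]
    [Algebra (MvPolynomial (Fin n) k) L]
    [IsScalarTower (MvPolynomial (Fin n) k) (FractionRing (MvPolynomial (Fin n) k)) L]
    [Algebra k L] [IsScalarTower k (MvPolynomial (Fin n) k) L] :
    ∃ (m : ℕ) (φ : Lˣ →* Multiplicative (Fin m → ℤ)),
      ∀ w : Lˣ, φ w = 1 → IsIntegral (MvPolynomial (Fin n) k) (w : L) → IsIntegral k (w : L) := by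
  classical
  set K := FractionRing (MvPolynomial (Fin n) k) with hK
  let V : ValuationSubring K := (infVal k n).valuationSubring
  haveI : IsDiscreteValuationRing V := Valuation.valuationSubring_isDiscreteValuationRing (infVal k n)
  letI : Algebra V L := ((algebraMap K L).comp (algebraMap V K)).toAlgebra
  haveI : IsScalarTower V K L := IsScalarTower.of_algebraMap_eq fun _ => rfl
  let C' := integralClosure V L
  haveI : IsDedekindDomain C' := IsIntegralClosure.isDedekindDomain V K L C'
  haveI : IsFractionRing C' L := IsIntegralClosure.isFractionRing_of_finite_extension V K L C'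
  haveI : Module.IsTorsionFree V C' := Module.isTorsionFree_iff_algebraMap_injective.mpr fun a b h =>
    Subtype.ext ((algebraMap K L).injective (congrArg (fun x : C' => (x : L)) h))
  haveI : Algebra.IsIntegral V C' := IsIntegralClosure.isIntegral_algebra V L
  have hfin : Set.Finite {P : Ideal C' | P.IsPrime ∧ P ≠ ⊥} := by
    refine (IsDedekindDomain.primesOver_finite (B := C') (p := IsLocalRing.maximalIdeal V)).subset ?_
    rintro P ⟨hP, hP0⟩
    haveI := hP
    haveI : P.IsMaximal := hP.isMaximal hP0
    refine ⟨hP, ⟨?_⟩⟩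
    exact (IsLocalRing.eq_maximalIdeal (Ideal.IsMaximal.under V P)).symm
  haveI : Finite (IsDedekindDomain.HeightOneSpectrum C') := by
    haveI := hfin.to_subtype
    exact Finite.of_injective (fun P => (⟨P.asIdeal, P.isPrime, P.ne_bot⟩ : {P : Ideal C' | P.IsPrime ∧ P ≠ ⊥}))
      fun P Q e => IsDedekindDomain.HeightOneSpectrum.ext (congrArg Subtype.val e)
  obtain ⟨m, ⟨e⟩⟩ := Finite.exists_equiv_fin (IsDedekindDomain.HeightOneSpectrum C')
  have hne : ∀ (w : Lˣ) i, (e.symm i).valuation L (w : L) ≠ 0 := fun w i =>
    (Valuation.ne_zero_iff _).mpr w.ne_zero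
  let φ : Lˣ →* Multiplicative (Fin m → ℤ) :=
    { toFun w := Multiplicative.ofAdd fun i => log ((e.symm i).valuation L (w : L))
      map_one' := by
        refine congrArg Multiplicative.ofAdd (funext fun i => ?_)
        simp
      map_mul' a b := by
        rw [← ofAdd_add]
        refine congrArg Multiplicative.ofAdd (funext fun i => ?_)
        rw [Units.val_mul, map_mul, log_mul (hne a i) (hne b i)]
        rfl }
  refine ⟨m, φ, fun w hw hint => ?_⟩
  have hv : ∀ P : IsDedekindDomain.HeightOneSpectrum C', P.valuation L (w : L) ≤ 1 := fun P => by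
    have h : log ((e.symm (e P)).valuation L (w : L)) = 0 := congrFun (congrArg Multiplicative.toAdd hw) (e P)
    rw [Equiv.symm_apply_apply] at h
    have h0 : P.valuation L (w : L) ≠ 0 := (Valuation.ne_zero_iff _).mpr w.ne_zero
    rw [← exp_log h0, h, exp_zero]
  obtain ⟨c, hc⟩ := IsDedekindDomain.HeightOneSpectrum.mem_integers_of_valuation_le_one L (w : L) hv
  have hintV : IsIntegral V (w : L) := hc ▸ c.2
  have e1 : minpoly K (w : L) = (minpoly (MvPolynomial (Fin n) k) (w : L)).map (algebraMap _ K) :=
    minpoly.isIntegrallyClosed_eq_field_fractions' K hint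
  have e2 : minpoly K (w : L) = (minpoly V (w : L)).map (algebraMap V K) :=
    minpoly.isIntegrallyClosed_eq_field_fractions' K hintV
  have hlift : minpoly (MvPolynomial (Fin n) k) (w : L) ∈ Polynomial.lifts (C : k →+* MvPolynomial (Fin n) k) := by
    refine (Polynomial.lifts_iff_coeff_lifts _).mpr fun i => ?_
    obtain ⟨a, ha⟩ := eq_C_of_le_one k n (p := (minpoly (MvPolynomial (Fin n) k) (w : L)).coeff i) (by
      rw [← Polynomial.coeff_map, ← e1, e2, Polynomial.coeff_map]
      exact ((minpoly V (w : L)).coeff i).2)
    exact ⟨a, ha.symm⟩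
  obtain ⟨q, hq, -, hqm⟩ := Polynomial.lifts_and_degree_eq_and_monic hlift (minpoly.monic hint)
  refine ⟨q, hqm, ?_⟩
  have h0 := minpoly.aeval (MvPolynomial (Fin n) k) (w : L)
  rw [← hq, Polynomial.aeval_def, Polynomial.eval₂_map] at h0
  rwa [show (algebraMap (MvPolynomial (Fin n) k) L).comp (C : k →+* MvPolynomial (Fin n) k) = algebraMap k L from
    (IsScalarTower.algebraMap_eq k (MvPolynomial (Fin n) k) L).symm] at h0

/-- the units of a domain of finite type over a field, up to algebraic elements -/
theorem exists_hom (A : Type u) [CommRing A] [IsDomain A] [Algebra k A] [Algebra.FiniteType k A] :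
    ∃ (m : ℕ) (φ : Aˣ →* Multiplicative (Fin m → ℤ)), ∀ u : Aˣ, φ u = 1 → IsIntegral k (u : A) := by
  classical
  obtain ⟨s, g, hg, hfin⟩ := exists_finite_inj_algHom_of_fg k A
  letI : Algebra (MvPolynomial (Fin s) k) A := g.toRingHom.toAlgebra
  haveI : IsScalarTower k (MvPolynomial (Fin s) k) A := IsScalarTower.of_algebraMap_eq fun c => (g.commutes c).symm
  haveI : Module.Finite (MvPolynomial (Fin s) k) A := hfin
  rcases Nat.eq_zero_or_pos s with rfl | hs
  · refine ⟨0, 1, fun u _ => ?_⟩
    haveI : Algebra.IsIntegral k (MvPolynomial (Fin 0) k) := ⟨fun p => by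
      rw [MvPolynomial.eq_C_of_isEmpty p]
      exact isIntegral_algebraMap⟩
    exact (Algebra.IsIntegral.trans (R := k) (A := MvPolynomial (Fin 0) k) (B := A)).isIntegral _
  haveI : NeZero s := ⟨hs.ne'⟩
  haveI : FaithfulSMul (MvPolynomial (Fin s) k) A := (faithfulSMul_iff_algebraMap_injective _ A).mpr hg
  set P := MvPolynomial (Fin s) k with hP
  let K := FractionRing P
  let L := FractionRing A
  letI : Algebra K L := FractionRing.liftAlgebra P L
  haveI : IsScalarTower P K L := FractionRing.isScalarTower_liftAlgebra P L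
  haveI : FiniteDimensional K L := Module.Finite.of_isLocalization P A P⁰
  let Ls := separableClosure K L
  haveI : IsScalarTower k P L := IsScalarTower.of_algebraMap_eq fun c => by
    rw [IsScalarTower.algebraMap_apply k A L, IsScalarTower.algebraMap_apply P A L,
      ← IsScalarTower.algebraMap_apply k P A]
  haveI : IsScalarTower k K L := IsScalarTower.of_algebraMap_eq fun c => by
    rw [IsScalarTower.algebraMap_apply k P L, IsScalarTower.algebraMap_apply P K L,
      ← IsScalarTower.algebraMap_apply k P K]
  letI : Algebra P Ls := ((algebraMap K Ls).comp (algebraMap P K)).toAlgebra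
  haveI : IsScalarTower P K Ls := IsScalarTower.of_algebraMap_eq fun _ => rfl
  haveI : IsScalarTower P Ls L := IsScalarTower.of_algebraMap_eq fun x => by
    show algebraMap P L x = algebraMap Ls L (algebraMap K Ls (algebraMap P K x))
    rw [← IsScalarTower.algebraMap_apply K Ls L, ← IsScalarTower.algebraMap_apply P K L]
  letI : Algebra k Ls := ((algebraMap P Ls).comp (algebraMap k P)).toAlgebra
  haveI : IsScalarTower k P Ls := IsScalarTower.of_algebraMap_eq fun _ => rfl
  haveI : IsScalarTower k Ls L := IsScalarTower.of_algebraMap_eq fun c => by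
    show algebraMap k L c = algebraMap Ls L (algebraMap P Ls (algebraMap k P c))
    rw [← IsScalarTower.algebraMap_apply P Ls L, ← IsScalarTower.algebraMap_apply k P L]
  obtain ⟨m, ψ, hψ⟩ := exists_hom_of_separable k s Ls
  let N := ringExpChar Ls ^ IsPurelyInseparable.exponent Ls L
  have hN : 0 < N := pow_pos (expChar_pos Ls _) _
  choose w hw using fun u : Aˣ => IsPurelyInseparable.exponent_def Ls (algebraMap A L (u : A))
  have hinj : Function.Injective (algebraMap Ls L) := (algebraMap Ls L).injective
  have hw0 : ∀ u, w u ≠ 0 := fun u h => by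
    have := hw u
    rw [h, map_zero] at this
    exact pow_ne_zero N ((map_ne_zero_iff _ (IsFractionRing.injective A L)).mpr u.ne_zero) this.symm
  let ω : Aˣ →* Lsˣ :=
    { toFun u := Units.mk0 (w u) (hw0 u)
      map_one' := Units.ext (hinj (by simp [hw]))
      map_mul' a b := Units.ext (hinj (by
        show algebraMap Ls L (w (a * b)) = algebraMap Ls L (w a * w b)
        rw [map_mul, hw, hw, hw, ← mul_pow, ← map_mul, Units.val_mul])) }
  refine ⟨m, ψ.comp ω, fun u hu => ?_⟩
  have h1 : IsIntegral P (algebraMap A L (u : A) ^ N) :=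
    ((Algebra.IsIntegral.isIntegral (R := P) (u : A)).algebraMap).pow N
  rw [← hw u, isIntegral_algebraMap_iff hinj] at h1
  have h2 := hψ (ω u) hu h1
  have h3 : IsIntegral k (algebraMap A L (u : A) ^ N) := by
    rw [← hw u]
    exact h2.algebraMap
  exact (isIntegral_algebraMap_iff (IsFractionRing.injective A L)).mp (h3.of_pow hN)

end UnitsFGLib
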