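import Mathlib
import Groth.Agent.UnitsFGLib.Affine

/-!
# Units of schemes locally of finite type over a field modulo constants
-/

set_option autoImplicit false
universe u

open CategoryTheory AlgebraicGeometry TopologicalSpace

noncomputable section

namespace UnitsFGLib

theorem isDomain_sections (X : Scheme.{u}) [IsReduced X] (U : X.Opens) (hU : IsIrreducible (U : Set X)) :
    IsDomain Γ(X, U) := by
  haveI : IrreducibleSpace ↥U.toScheme := Subtype.irreducibleSpace hU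
  haveI : AlgebraicGeometry.IsIntegral U.toScheme := isIntegral_of_irreducibleSpace_of_isReduced _
  haveI : IsDomain Γ(U.toScheme, ⊤) := inferInstance
  exact U.topIso.symm.commRingCatIsoToRingEquiv.toMulEquiv.isDomain _

/-- an affine integral open around the generic point of a component -/
theorem exists_affine_in_component (X : Scheme.{u}) (hirr : (irreducibleComponents (X : Type u)).Finite)
    (Z : Set X) (hZ : Z ∈ irreducibleComponents (X : Type u)) :
    ∃ U : X.Opens, IsAffineOpen U ∧ IsIrreducible (U : Set X) ∧ (U : Set X) ⊆ Z := by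
  obtain ⟨x, hx⟩ := hZ.1.1
  set W : Set X := (⋃ Y ∈ irreducibleComponents (X : Type u) \ {Z}, Y)ᶜ with hW
  have hWo : IsOpen W := ((hirr.sdiff).isClosed_biUnion fun Y hY =>
    isClosed_of_mem_irreducibleComponents Y hY.1).isOpen_compl
  have hη : IsGenericPoint (hZ.1.genericPoint) Z := by
    have := hZ.1.isGenericPoint_genericPoint_closure
    rwa [(isClosed_of_mem_irreducibleComponents Z hZ).closure_eq] at this
  have hηW : hZ.1.genericPoint ∈ W := by
    simp only [hW, Set.mem_compl_iff, Set.mem_iUnion, not_exists]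
    intro Y hY hmem
    have hsub : Z ⊆ Y := hη.def ▸ (isClosed_of_mem_irreducibleComponents Y hY.1).closure_subset_iff.mpr
      (Set.singleton_subset_iff.mpr hmem)
    exact hY.2 (le_antisymm (hZ.2 hY.1.1 hsub) hsub)
  have hWZ : W ⊆ Z := fun y hy => by
    obtain ⟨Y, hY, hyY⟩ := Set.mem_sUnion.mp
      ((sUnion_irreducibleComponents (X := (X : Type u))).symm ▸ Set.mem_univ y)
    by_contra h
    exact hy (Set.mem_biUnion ⟨hY, fun e => h (Set.mem_singleton_iff.mp e ▸ hyY)⟩ hyY)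
  obtain ⟨U, hU, hηU, hUW⟩ := X.isBasis_affineOpens.exists_subset_of_mem_open hηW hWo
  refine ⟨⟨U, (?_ : IsOpen U)⟩, ?_, ?_, hUW.trans hWZ⟩
  · obtain ⟨V, -, rfl⟩ := hU
    exact V.isOpen
  · obtain ⟨V, hV, rfl⟩ := hU
    exact hV
  · obtain ⟨V, -, rfl⟩ := hU
    exact ⟨⟨_, hηU⟩, hZ.1.2.open_subset V.isOpen (hUW.trans hWZ)⟩

/-- units of a reduced scheme locally of finite type over a field with finitely many components,
up to integral elements -/
theorem exists_hom_of_scheme (k : Type u) [Field k] (X : Scheme.{u}) (f : X ⟶ Spec (CommRingCat.of k))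
    [LocallyOfFiniteType f] [IsReduced X] (hirr : (irreducibleComponents (X : Type u)).Finite) :
    ∃ (σ : Type u) (_ : Finite σ) (m : σ → ℕ) (Φ : (Γ(X, ⊤))ˣ →* ((s : σ) → Multiplicative (Fin (m s) → ℤ))),
      ∀ u : (Γ(X, ⊤))ˣ, Φ u = 1 →
        (f.appTop.hom.comp (Scheme.ΓSpecIso (CommRingCat.of k)).inv.hom).IsIntegralElem (u : Γ(X, ⊤)) := by
  classical
  let g : k →+* Γ(X, ⊤) := f.appTop.hom.comp (Scheme.ΓSpecIso (CommRingCat.of k)).inv.hom
  choose U hUa hUirr hUsub using fun Z : irreducibleComponents (X : Type u) =>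
    exists_affine_in_component X hirr Z.1 Z.2
  let r : ∀ Z, Γ(X, ⊤) →+* Γ(X, U Z) := fun Z => (X.presheaf.map (homOfLE le_top).op).hom
  have hφ : ∀ Z, ∃ (m : ℕ) (φ : (Γ(X, U Z))ˣ →* Multiplicative (Fin m → ℤ)),
      ∀ u, φ u = 1 → ((r Z).comp g).IsIntegralElem (u : Γ(X, U Z)) := by
    intro Z
    haveI := isDomain_sections X (U Z) (hUirr Z)
    letI : Algebra k Γ(X, U Z) := ((r Z).comp g).toAlgebra
    haveI : Algebra.FiniteType k Γ(X, U Z) := by
      have h1 : (f.appLE ⊤ (U Z) le_top).hom.FiniteType := f.finiteType_appLE (isAffineOpen_top _) (hUa Z) le_top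
      have h2 : (Scheme.ΓSpecIso (CommRingCat.of k)).inv.hom.FiniteType :=
        RingHom.FiniteType.of_surjective _
          (ConcreteCategory.bijective_of_isIso (Scheme.ΓSpecIso (CommRingCat.of k)).inv).2
      exact (h1.comp h2 : ((r Z).comp g).FiniteType)
    exact exists_hom k _
  choose m φ hm using hφ
  refine ⟨irreducibleComponents (X : Type u), hirr.to_subtype, m,
    MonoidHom.pi fun Z => (φ Z).comp (Units.map (r Z).toMonoidHom), fun u hu => ?_⟩
  choose p hpm hp using fun Z => hm Z _ (congrFun hu Z)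
  haveI := hirr.fintype
  refine ⟨∏ Z, p Z, Polynomial.monic_prod_of_monic _ _ fun Z _ => hpm Z, ?_⟩
  rw [← basicOpen_eq_bot_iff, ← Opens.not_nonempty_iff_eq_bot]
  rintro ⟨x, hx⟩
  obtain ⟨Z, hZ, hxZ⟩ := Set.mem_sUnion.mp
    ((sUnion_irreducibleComponents (X := (X : Type u))).symm ▸ Set.mem_univ x)
  set V := X.basicOpen (Polynomial.eval₂ g (u : Γ(X, ⊤)) (∏ Z, p Z))
  obtain ⟨y, -, hyU, hyV⟩ := hZ.1.2 (U ⟨Z, hZ⟩ : Set X) (V : Set X) (U _).isOpen V.isOpen
    (let ⟨y, hy⟩ := (hUirr ⟨Z, hZ⟩).1; ⟨y, hUsub ⟨Z, hZ⟩ hy, hy⟩) ⟨x, hxZ, hx⟩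
  have hzero : r ⟨Z, hZ⟩ (Polynomial.eval₂ g (u : Γ(X, ⊤)) (∏ Z, p Z)) = 0 := by
    rw [Polynomial.hom_eval₂, Polynomial.eval₂_finsetProd]
    refine Finset.prod_eq_zero (Finset.mem_univ (⟨Z, hZ⟩ : irreducibleComponents (X : Type u))) ?_
    exact hp ⟨Z, hZ⟩
  have h : X.basicOpen (r ⟨Z, hZ⟩ (Polynomial.eval₂ g (u : Γ(X, ⊤)) (∏ Z, p Z))) = U ⟨Z, hZ⟩ ⊓ V :=
    Scheme.basicOpen_res _ _ _
  rw [hzero, Scheme.basicOpen_zero] at h
  exact (h.symm ▸ (⟨hyU, hyV⟩ : y ∈ U ⟨Z, hZ⟩ ⊓ V) : y ∈ (⊥ : X.Opens))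

theorem constants_of_integral (k : Type u) [Field k] (X : Scheme.{u}) [Nonempty X]
    (g : k →+* Γ(X, ⊤)) (u : (Γ(X, ⊤))ˣ) (hu : (u : Γ(X, ⊤)) ∈ Set.range g) :
    u ∈ (Units.map (g : k →* Γ(X, ⊤))).range := by
  obtain ⟨c, hc⟩ := hu
  haveI : Nontrivial Γ(X, ⊤) := by
    haveI : Nonempty (⊤ : X.Opens) := ⟨⟨Classical.arbitrary X, trivial⟩⟩
    infer_instance
  have hc0 : c ≠ 0 := fun h => u.ne_zero (by rw [← hc, h, map_zero])
  exact ⟨Units.mk0 c hc0, Units.ext hc⟩

theorem exists_surj_free {G : Type u} [CommGroup G] {σ : Type u} [Finite σ] (m : σ → ℕ)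
    (Φ : G →* ((s : σ) → Multiplicative (Fin (m s) → ℤ))) :
    ∃ (n : ℕ) (v : G →* Multiplicative (Fin n → ℤ)), Function.Surjective v ∧ v.ker = Φ.ker := by
  classical
  let ψ : Additive G →+ ((s : σ) → Fin (m s) → ℤ) :=
    { toFun g s := (Φ g.toMul s).toAdd
      map_zero' := funext fun s => by simp
      map_add' a b := funext fun s => by simp }
  let N : Submodule ℤ ((s : σ) → Fin (m s) → ℤ) := AddSubgroup.toIntSubmodule ψ.range
  let ψ' : Additive G →+ N :=
    { toFun g := ⟨ψ g, ⟨g, rfl⟩⟩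
      map_zero' := Subtype.ext (map_zero ψ)
      map_add' a b := Subtype.ext (map_add ψ a b) }
  let e := (Module.Free.chooseBasis ℤ N).reindex (Fintype.equivFin _)
  let F : Additive G →+ (Fin _ → ℤ) := e.equivFun.toLinearMap.toAddMonoidHom.comp ψ'
  refine ⟨_, AddMonoidHom.toMultiplicativeRight F, ?_, ?_⟩
  · intro y
    obtain ⟨g, hg⟩ := (e.equivFun.symm (Multiplicative.toAdd y)).2
    refine ⟨g.toMul, ?_⟩
    show Multiplicative.ofAdd (e.equivFun (ψ' g)) = y
    have hg' : ψ' g = e.equivFun.symm (Multiplicative.toAdd y) := Subtype.ext hg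
    rw [hg', LinearEquiv.apply_symm_apply, ofAdd_toAdd]
  · ext g
    rw [MonoidHom.mem_ker, MonoidHom.mem_ker]
    show Multiplicative.ofAdd (e.equivFun (ψ' (Additive.ofMul g))) = 1 ↔ _
    rw [ofAdd_eq_one, LinearEquiv.map_eq_zero_iff, Subtype.ext_iff, funext_iff, funext_iff]
    exact forall_congr' fun s => Iff.rfl

theorem quotient_fg {G : Type u} [CommGroup G] {σ : Type u} [Finite σ] (m : σ → ℕ)
    (Φ : G →* ((s : σ) → Multiplicative (Fin (m s) → ℤ))) (H : Subgroup G) (h : Φ.ker ≤ H) :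
    Group.FG (G ⧸ H) := by
  obtain ⟨n, v, hv, hker⟩ := exists_surj_free m Φ
  haveI : AddGroup.FG (Fin n → ℤ) := Module.Finite.iff_addGroup_fg.mp inferInstance
  haveI : Group.FG (G ⧸ v.ker) :=
    Group.fg_of_surjective (f := (QuotientGroup.quotientKerEquivOfSurjective v hv).symm.toMonoidHom)
      (QuotientGroup.quotientKerEquivOfSurjective v hv).symm.surjective
  exact Group.fg_of_surjective (f := QuotientGroup.map v.ker H (MonoidHom.id G) (hker ▸ h))
    (QuotientGroup.map_surjective_of_surjective v.ker H (MonoidHom.id G) (fun x => by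
      obtain ⟨y, rfl⟩ := QuotientGroup.mk'_surjective H x; exact ⟨y, rfl⟩) _)

end UnitsFGLib
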